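import Groth.Agent.L15.QG.Odd2
import Groth.Agent.L15.QG.CliffBasis

/-!
Coordinates on base changes of a Clifford algebra: functoriality in the coefficient ring and base
change of linear maps.
-/

set_option autoImplicit false
set_option linter.style.haveILetI false

noncomputable section

universe u

open TensorProduct CliffordAlgebra

namespace Groth.L11.GPinSm

open Groth.L15.QG

variable {R : Type u} [CommRing R] {n : ℕ} (Q : QuadraticForm R (Fin n → R))

/-- The Clifford algebra of the base change. -/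
abbrev CA (A : Type u) [CommRing A] [Algebra R A] : Type u :=
  CliffordAlgebra (QuadGrp.baseChangeForm A Q)

/-- The basis of the Clifford algebra. -/
def cB : Module.Basis (Finset (Fin n)) R (CliffordAlgebra Q) := cliffBasis Q (Pi.basisFun R (Fin n))

variable {A B : Type u} [CommRing A] [Algebra R A] [CommRing B] [Algebra R B]

theorem induction {P : CA Q A → Prop} (h₀ : P 0) (h₁ : ∀ (a : A) (x : CliffordAlgebra Q), P (a • toC A Q x))
    (h₂ : ∀ x y, P x → P y → P (x + y)) (x : CA Q A) : P x := by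
  obtain ⟨ξ, rfl⟩ := (baseChangeEquiv A Q).surjective x
  induction ξ using TensorProduct.induction_on with
  | zero => rwa [map_zero]
  | tmul a y => rw [baseChangeEquiv_tmul]; exact h₁ a y
  | add a c ha hc => rw [map_add]; exact h₂ _ _ ha hc

/-- Functoriality in the coefficient ring. -/
def mapC (φ : A →ₐ[R] B) : CA Q A →ₐ[R] CA Q B :=
  (((baseChangeEquiv B Q).restrictScalars R).toAlgHom.comp
    (Algebra.TensorProduct.map φ (AlgHom.id R (CliffordAlgebra Q)))).comp
    ((baseChangeEquiv A Q).restrictScalars R).symm.toAlgHom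

theorem mapC_smul_toC (φ : A →ₐ[R] B) (a : A) (x : CliffordAlgebra Q) :
    mapC Q φ (a • toC A Q x) = φ a • toC B Q x := by
  rw [← baseChangeEquiv_tmul, ← baseChangeEquiv_tmul]
  show baseChangeEquiv B Q ((Algebra.TensorProduct.map φ (AlgHom.id R (CliffordAlgebra Q)))
    ((baseChangeEquiv A Q).symm (baseChangeEquiv A Q (a ⊗ₜ[R] x)))) = _
  rw [AlgEquiv.symm_apply_apply, Algebra.TensorProduct.map_tmul, AlgHom.id_apply]

theorem mapC_smul (φ : A →ₐ[R] B) (a : A) (x : CA Q A) : mapC Q φ (a • x) = φ a • mapC Q φ x := by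
  induction x using induction Q with
  | h₀ => simp
  | h₁ c y => rw [smul_smul, mapC_smul_toC, mapC_smul_toC, smul_smul, map_mul]
  | h₂ x y hx hy => rw [smul_add, map_add, map_add, smul_add, hx, hy]

theorem mapC_toC (φ : A →ₐ[R] B) (x : CliffordAlgebra Q) : mapC Q φ (toC A Q x) = toC B Q x := by
  have := mapC_smul_toC Q φ 1 x
  rwa [one_smul, map_one, one_smul] at this

theorem mapC_algebraMap (φ : A →ₐ[R] B) (a : A) :
    mapC Q φ (algebraMap A _ a) = algebraMap B _ (φ a) := by
  rw [Algebra.algebraMap_eq_smul_one, mapC_smul, map_one, Algebra.algebraMap_eq_smul_one]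

theorem mapC_ι (φ : A →ₐ[R] B) (v : A ⊗[R] (Fin n → R)) :
    mapC Q φ (ι _ v) = ι _ (LinearMap.rTensor (Fin n → R) φ.toLinearMap v) := by
  induction v using TensorProduct.induction_on with
  | zero => simp
  | tmul a m =>
    rw [show a ⊗ₜ[R] m = a • ((1 : A) ⊗ₜ[R] m) by rw [smul_tmul', smul_eq_mul, mul_one], map_smul, ← toC_ι,
      mapC_smul_toC, smul_tmul', smul_eq_mul, mul_one, LinearMap.rTensor_tmul, toC_ι, ← map_smul, smul_tmul',
      smul_eq_mul, mul_one]
    rfl
  | add x y hx hy => simp only [map_add, hx, hy]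

theorem star_toC_smul (a : A) (x : CliffordAlgebra Q) :
    star (a • toC A Q x) = a • toC A Q (star x) := by
  rw [CliffordAlgebra.star_smul, star_toC]

theorem mapC_star (φ : A →ₐ[R] B) (x : CA Q A) : mapC Q φ (star x) = star (mapC Q φ x) := by
  induction x using induction Q with
  | h₀ => simp
  | h₁ c y => rw [star_toC_smul, mapC_smul_toC, mapC_smul_toC, star_toC_smul]
  | h₂ x y hx hy => rw [star_add, map_add, map_add, star_add, hx, hy]

/-- Coordinates. -/
def coord (A : Type u) [CommRing A] [Algebra R A] : Module.Basis (Finset (Fin n)) A (CA Q A) :=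
  basisA (cB Q) A

theorem repr_mapC (φ : A →ₐ[R] B) (x : CA Q A) (s : Finset (Fin n)) :
    (coord Q B).repr (mapC Q φ x) s = φ ((coord Q A).repr x s) := by
  induction x using induction Q with
  | h₀ => simp
  | h₁ a y =>
    rw [mapC_smul_toC, map_smul, map_smul, Finsupp.smul_apply, Finsupp.smul_apply, coord, coord,
      basisA_repr_toC, basisA_repr_toC, smul_eq_mul, smul_eq_mul, map_mul, AlgHom.commutes]
  | h₂ x y hx hy => simp only [map_add, Finsupp.add_apply, hx, hy]

theorem mapC_eq_zero (φ : A →ₐ[R] B) (x : CA Q A) :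
    mapC Q φ x = 0 ↔ ∀ s, φ ((coord Q A).repr x s) = 0 := by
  simp only [← repr_mapC]
  exact ⟨fun h s => by simp [h], fun h => (coord Q B).repr.injective (Finsupp.ext fun s => by simp [h s])⟩

/-- Base change of a linear endomorphism of the Clifford algebra. -/
def bc (A : Type u) [CommRing A] [Algebra R A] (f : CliffordAlgebra Q →ₗ[R] CliffordAlgebra Q) :
    CA Q A →ₗ[A] CA Q A :=
  ((baseChangeEquiv A Q).toLinearEquiv.toLinearMap.comp (f.baseChange A)).comp
    (baseChangeEquiv A Q).symm.toLinearEquiv.toLinearMap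

theorem bc_toC (f : CliffordAlgebra Q →ₗ[R] CliffordAlgebra Q) (x : CliffordAlgebra Q) :
    bc Q A f (toC A Q x) = toC A Q (f x) := by
  rw [← baseChangeEquiv_one_tmul]
  show baseChangeEquiv A Q (f.baseChange A ((baseChangeEquiv A Q).symm (baseChangeEquiv A Q _))) = _
  rw [AlgEquiv.symm_apply_apply, LinearMap.baseChange_tmul, baseChangeEquiv_one_tmul]

theorem mapC_bc (φ : A →ₐ[R] B) (f : CliffordAlgebra Q →ₗ[R] CliffordAlgebra Q) (x : CA Q A) :
    mapC Q φ (bc Q A f x) = bc Q B f (mapC Q φ x) := by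
  induction x using induction Q with
  | h₀ => simp
  | h₁ a y => rw [map_smul, bc_toC, mapC_smul_toC, mapC_smul_toC, map_smul, bc_toC]
  | h₂ x y hx hy => simp only [map_add, hx, hy]

/-- A projection killing exactly the vectors. -/
def nonVec : CliffordAlgebra Q →ₗ[R] CliffordAlgebra Q :=
  LinearMap.id - (ι Q).comp ((ExteriorAlgebra.ιInv (R := R) (M := Fin n → R)).comp (toExt Q).toLinearMap)

theorem nonVec_ι (v : Fin n → R) : nonVec Q (ι Q v) = 0 := by
  simp only [nonVec, LinearMap.sub_apply, LinearMap.id_apply, LinearMap.comp_apply, LinearEquiv.coe_coe, toExt_ι]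
  rw [sub_eq_zero]
  exact congrArg (ι Q) (ExteriorAlgebra.ι_leftInverse v).symm

theorem bc_nonVec_eq_zero_iff (x : CA Q A) :
    bc Q A (nonVec Q) x = 0 ↔ x ∈ LinearMap.range (ι (QuadGrp.baseChangeForm A Q)) := by
  constructor
  · intro hx
    have h : ∀ y : CA Q A, y - bc Q A (nonVec Q) y ∈ LinearMap.range (ι (QuadGrp.baseChangeForm A Q)) := by
      intro y
      induction y using induction Q with
      | h₀ => simp
      | h₁ a z =>
        rw [map_smul, bc_toC, ← smul_sub, ← map_sub]
        refine Submodule.smul_mem _ _ ?_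
        simp only [nonVec, LinearMap.sub_apply, LinearMap.id_apply, sub_sub_cancel, LinearMap.comp_apply]
        exact ⟨_, (toC_ι A Q _).symm⟩
      | h₂ y z hy hz => rw [map_add, add_sub_add_comm]; exact Submodule.add_mem _ hy hz
    simpa [hx] using h x
  · rintro ⟨v, rfl⟩
    induction v using TensorProduct.induction_on with
    | zero => simp
    | tmul a m =>
      rw [show a ⊗ₜ[R] m = a • ((1 : A) ⊗ₜ[R] m) by rw [smul_tmul', smul_eq_mul, mul_one], map_smul, ← toC_ι,
        map_smul, bc_toC, nonVec_ι, map_zero, smul_zero]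
    | add y z hy hz => rw [map_add, map_add, hy, hz, add_zero]

/-- The odd part. -/
def oddPart : CliffordAlgebra Q →ₗ[R] CliffordAlgebra Q :=
  (evenOdd Q 1).subtype.comp
    ((DirectSum.component R (ZMod 2) (fun i => evenOdd Q i) 1).comp
      (DirectSum.decomposeLinearEquiv (evenOdd Q)).toLinearMap)

theorem oddPart_mem (x : CliffordAlgebra Q) : oddPart Q x ∈ evenOdd Q 1 := Subtype.coe_prop _

theorem oddPart_of_odd {x : CliffordAlgebra Q} (hx : x ∈ evenOdd Q 1) : oddPart Q x = x :=
  DirectSum.decompose_of_mem_same (evenOdd Q) hx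

theorem sub_oddPart_mem (x : CliffordAlgebra Q) : x - oddPart Q x ∈ evenOdd Q 0 := by
  obtain ⟨a, ha, c, hc, rfl⟩ := exists_even_odd Q x
  have h0 : oddPart Q a = 0 := DirectSum.decompose_of_mem_ne (evenOdd Q) ha (by decide)
  rw [map_add, h0, oddPart_of_odd Q hc, zero_add, add_sub_cancel_right]
  exact ha

theorem bc_oddPart (x : CA Q A) :
    x - bc Q A (oddPart Q) x ∈ evenOdd (QuadGrp.baseChangeForm A Q) 0 ∧
      bc Q A (oddPart Q) x ∈ evenOdd (QuadGrp.baseChangeForm A Q) 1 := by
  induction x using induction Q with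
  | h₀ => simp
  | h₁ a y =>
    rw [map_smul, bc_toC, ← smul_sub, ← map_sub]
    exact ⟨Submodule.smul_mem _ _ (toC_mem_evenOdd A Q (sub_oddPart_mem Q y)),
      Submodule.smul_mem _ _ (toC_mem_evenOdd A Q (oddPart_mem Q y))⟩
  | h₂ x y hx hy =>
    rw [map_add, add_sub_add_comm]
    exact ⟨Submodule.add_mem _ hx.1 hy.1, Submodule.add_mem _ hx.2 hy.2⟩

theorem bc_oddPart_eq_zero_iff (x : CA Q A) :
    bc Q A (oddPart Q) x = 0 ↔ x ∈ evenOdd (QuadGrp.baseChangeForm A Q) 0 := by
  refine ⟨fun h => by simpa [h] using (bc_oddPart Q x).1, fun h => ?_⟩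
  obtain ⟨h0, h1⟩ := bc_oddPart Q x
  refine eq_zero_of_even_odd _ ?_ h1
  simpa using Submodule.sub_mem _ h h0

theorem bc_oddPart_eq_self_iff (x : CA Q A) :
    bc Q A (oddPart Q) x = x ↔ x ∈ evenOdd (QuadGrp.baseChangeForm A Q) 1 := by
  refine ⟨fun h => h ▸ (bc_oddPart Q x).2, fun h => ?_⟩
  obtain ⟨h0, h1⟩ := bc_oddPart Q x
  exact (sub_eq_zero.1 (eq_zero_of_even_odd _ h0 (Submodule.sub_mem _ h h1))).symm

end Groth.L11.GPinSm
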