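import Groth.Agent.L11.GPinSm.Rep
import Groth.Agent.L15.OrthSm.Rep
import Groth.Agent.L15.QG.Centre

/-!
Lifting points of the Clifford and pin groups along square-zero ideals of local rings.
-/

set_option autoImplicit false
set_option linter.style.haveILetI false

noncomputable section

universe u

open TensorProduct CliffordAlgebra

namespace Groth.L11.GPinSm

open Groth.L15.QG

variable {R : Type u} [CommRing R] {n : ℕ} (Q : QuadraticForm R (Fin n → R))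
  {S : Type u} [CommRing S] [Algebra R S] [IsLocalRing S] {I : Ideal S}

/-- The reduction map on vectors. -/
abbrev redV (I : Ideal S) : S ⊗[R] (Fin n → R) →ₗ[R] (S ⧸ I) ⊗[R] (Fin n → R) :=
  LinearMap.rTensor (Fin n → R) (Ideal.Quotient.mkₐ R I).toLinearMap

theorem nontrivial_quot (hI : I ^ 2 = ⊥) : Nontrivial (S ⧸ I) :=
  Ideal.Quotient.nontrivial_iff.2 fun h => by
    rw [h, Ideal.top_pow] at hI
    exact top_ne_bot hI

theorem isLocalRing_quot (hI : I ^ 2 = ⊥) : IsLocalRing (S ⧸ I) :=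
  haveI := nontrivial_quot hI
  IsLocalRing.of_surjective' (Ideal.Quotient.mk I) Ideal.Quotient.mk_surjective

omit [IsLocalRing S] in
theorem redV_surjective : Function.Surjective (redV (R := R) (n := n) I) :=
  LinearMap.rTensor_surjective _ Ideal.Quotient.mk_surjective

omit [IsLocalRing S] in
theorem mem_orth_iff (A : Type u) [CommRing A] [Algebra R A]
    (g : (A ⊗[R] (Fin n → R)) ≃ₗ[A] (A ⊗[R] (Fin n → R))) :
    g ∈ QuadGrp.O (QuadGrp.baseChangeForm A Q) ↔ g ∈ QuadGrp.orth Q A := by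
  simp only [QuadGrp.orth, QuadGrp.mem_O, QuadGrp.baseChangeForm, LinearMap.compQuadraticMap_apply,
    LinearEquiv.coe_coe, EmbeddingLike.apply_eq_iff_eq]

/-- Lifting an isometry. -/
theorem exists_isometry_lift {sp : Prop} (hl : Groth.L15.OrthSm.Lifts (Groth.L15.OrthSm.bmat Q) sp)
    (hI : I ^ 2 = ⊥) {g₀ : ((S ⧸ I) ⊗[R] (Fin n → R)) ≃ₗ[S ⧸ I] ((S ⧸ I) ⊗[R] (Fin n → R))}
    (hg₀ : g₀ ∈ QuadGrp.O (QuadGrp.baseChangeForm (S ⧸ I) Q))
    (hd : sp → LinearMap.det g₀.toLinearMap = 1) :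
    ∃ g : (S ⊗[R] (Fin n → R)) ≃ₗ[S] (S ⊗[R] (Fin n → R)),
      g ∈ QuadGrp.O (QuadGrp.baseChangeForm S Q) ∧ (sp → LinearMap.det g.toLinearMap = 1) ∧
      ∀ v, redV I (g v) = g₀ (redV I v) := by
  obtain ⟨M, hM, h1, h2, h3⟩ := hl S I hI (Groth.L15.OrthSm.mat (S ⧸ I) g₀)
    ((Groth.L15.OrthSm.mem_orth Q _ g₀).1 ((mem_orth_iff Q _ g₀).1 hg₀))
    (Groth.L15.OrthSm.isUnit_mat_det _ g₀) (fun h => by
      rw [Groth.L15.OrthSm.mat, LinearMap.det_toMatrix]; exact hd h)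
  obtain ⟨g, hg⟩ := Groth.L15.OrthSm.exists_mat (R := R) S M h2
  refine ⟨g, (mem_orth_iff Q S g).2 ((Groth.L15.OrthSm.mem_orth Q S g).2 (hg ▸ h1)), fun h => ?_, ?_⟩
  · rw [← LinearMap.det_toMatrix (Groth.L15.OrthSm.bas R S)]
    show (Groth.L15.OrthSm.mat S g).det = 1
    rw [hg]; exact h3 h
  · have key : ∀ (v : S ⊗[R] (Fin n → R)) (i : Fin n),
        (Groth.L15.OrthSm.bas R (S ⧸ I)).repr (redV I v) i =
          Ideal.Quotient.mk I ((Groth.L15.OrthSm.bas R S).repr v i) := by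
      intro v i
      induction v using TensorProduct.induction_on with
      | zero => simp
      | tmul a m => simp [Groth.L15.OrthSm.bas, redV, Algebra.smul_def]
      | add x y hx hy => simp only [map_add, Finsupp.add_apply, hx, hy]
    intro v
    refine (Groth.L15.OrthSm.bas R (S ⧸ I)).repr.injective (Finsupp.ext fun i => ?_)
    rw [key, Groth.L15.OrthSm.repr_apply, Groth.L15.OrthSm.repr_apply, ← hM, hg]
    simp only [Matrix.mulVec, dotProduct, map_sum, map_mul, Matrix.map_apply, key]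

/-- Scalars lift to units. -/
theorem exists_unit_scalar (hI : I ^ 2 = ⊥) {d : (CA Q (S ⧸ I))ˣ}
    (hd : (d : CA Q (S ⧸ I)) ∈ (algebraMap (S ⧸ I) (CA Q (S ⧸ I))).range)
    (hd' : (↑d⁻¹ : CA Q (S ⧸ I)) ∈ (algebraMap (S ⧸ I) (CA Q (S ⧸ I))).range) :
    ∃ c : Sˣ, mapC Q (Ideal.Quotient.mkₐ R I) (algebraMap S (CA Q S) c) = d := by
  obtain ⟨a, ha⟩ := hd
  obtain ⟨b, hb⟩ := hd'
  obtain ⟨a', rfl⟩ := Ideal.Quotient.mk_surjective a
  obtain ⟨b', rfl⟩ := Ideal.Quotient.mk_surjective b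
  haveI := nontrivial_quot hI
  have hab : IsUnit (Ideal.Quotient.mk I a') := IsUnit.of_mul_eq_one (Ideal.Quotient.mk I b')
    (Groth.L15.QG.algebraMap_injective _ (by rw [map_mul, map_one, ha, hb, Units.mul_inv]))
  haveI : IsLocalHom (Ideal.Quotient.mk I) := IsLocalHom.of_surjective _ Ideal.Quotient.mk_surjective
  exact ⟨(isUnit_of_map_unit _ _ hab).unit, by rw [mapC_algebraMap]; exact ha⟩

/-- The reduction on units. -/
abbrev redU (I : Ideal S) : (CA Q S)ˣ →* (CA Q (S ⧸ I))ˣ :=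
  Units.map (mapC Q (Ideal.Quotient.mkₐ R I)).toMonoidHom

omit [IsLocalRing S] in
theorem redU_val (x : (CA Q S)ˣ) : (redU Q I x : CA Q (S ⧸ I)) = mapC Q (Ideal.Quotient.mkₐ R I) x := rfl

omit [IsLocalRing S] in
/-- Two lifts of the same isometry differ by a central unit. -/
theorem commute_div {g₀ : ((S ⧸ I) ⊗[R] (Fin n → R)) ≃ₗ[S ⧸ I] ((S ⧸ I) ⊗[R] (Fin n → R))}
    {g : (S ⊗[R] (Fin n → R)) ≃ₗ[S] (S ⊗[R] (Fin n → R))} (hgr : ∀ v, redV I (g v) = g₀ (redV I v))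
    {x₀ : (CA Q (S ⧸ I))ˣ} {x : (CA Q S)ˣ}
    (hx₀ : ∀ v, (x₀ : CA Q (S ⧸ I)) * ι (QuadGrp.baseChangeForm (S ⧸ I) Q) v * (↑x₀⁻¹ : CA Q (S ⧸ I)) = ι (QuadGrp.baseChangeForm (S ⧸ I) Q) (g₀ v))
    (hx : ∀ v, (x : CA Q S) * ι (QuadGrp.baseChangeForm S Q) v * (↑x⁻¹ : CA Q S) = ι (QuadGrp.baseChangeForm S Q) (g v)) :
    ∀ v, ι (QuadGrp.baseChangeForm (S ⧸ I) Q) v * (((redU Q I x)⁻¹ * x₀ : (CA Q (S ⧸ I))ˣ) : CA Q (S ⧸ I)) =
      (((redU Q I x)⁻¹ * x₀ : (CA Q (S ⧸ I))ˣ) : CA Q (S ⧸ I)) * ι _ v := by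
  intro v
  obtain ⟨w, rfl⟩ := redV_surjective v
  have h1 : (redU Q I x : CA Q (S ⧸ I)) * ι (QuadGrp.baseChangeForm (S ⧸ I) Q) (redV I w) = ι (QuadGrp.baseChangeForm (S ⧸ I) Q) (g₀ (redV I w)) * (redU Q I x : CA Q (S ⧸ I)) := by
    rw [← hgr, redU_val, ← mapC_ι, ← mapC_ι, ← map_mul, ← map_mul, ← hx, mul_assoc, Units.inv_mul, mul_one]
  have h2 : (x₀ : CA Q (S ⧸ I)) * ι (QuadGrp.baseChangeForm (S ⧸ I) Q) (redV I w) = ι (QuadGrp.baseChangeForm (S ⧸ I) Q) (g₀ (redV I w)) * (x₀ : CA Q (S ⧸ I)) := by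
    rw [← hx₀, mul_assoc, Units.inv_mul, mul_one]
  rw [Units.val_mul, ← mul_assoc, mul_assoc (↑(redU Q I x)⁻¹ : CA Q (S ⧸ I)) (x₀ : CA Q (S ⧸ I)), h2]
  simp only [← mul_assoc]
  congr 1
  apply (redU Q I x).isUnit.mul_right_injective
  simp only [← mul_assoc, Units.mul_inv, one_mul]
  rw [h1, mul_assoc, Units.mul_inv, mul_one]

omit [IsLocalRing S] in
theorem inv_commute {A : Type u} [Ring A] (d : Aˣ) {a : A} (h : a * (d : A) = (d : A) * a) :
    a * (↑d⁻¹ : A) = (↑d⁻¹ : A) * a :=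
  (Commute.units_inv_right (h : Commute a d))

/-- A central scalar unit. -/
def scalarUnit (c : Sˣ) : (CA Q S)ˣ := Units.map (algebraMap S (CA Q S)).toMonoidHom c

theorem scalarUnit_val (c : Sˣ) : (scalarUnit Q c : CA Q S) = algebraMap S _ (c : S) := rfl

omit [IsLocalRing S] in
/-- Multiplying by a central unit keeps the isometry. -/
theorem conj_mul_central {g : (S ⊗[R] (Fin n → R)) ≃ₗ[S] (S ⊗[R] (Fin n → R))} {x : (CA Q S)ˣ}
    (hx : ∀ v, (x : CA Q S) * ι (QuadGrp.baseChangeForm S Q) v * (↑x⁻¹ : CA Q S) = ι (QuadGrp.baseChangeForm S Q) (g v)) (z : (CA Q S)ˣ)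
    (hz : ∀ v, ι (QuadGrp.baseChangeForm S Q) v * (z : CA Q S) = (z : CA Q S) * ι _ v) :
    ∀ v, ((x * z : (CA Q S)ˣ) : CA Q S) * ι (QuadGrp.baseChangeForm S Q) v * (↑(x * z)⁻¹ : CA Q S) = ι (QuadGrp.baseChangeForm S Q) (g v) := by
  intro v
  rw [mul_inv_rev, Units.val_mul, Units.val_mul, ← hx v]
  simp only [← mul_assoc]
  congr 1
  rw [mul_assoc (x : CA Q S) (z : CA Q S), ← hz]
  simp [mul_assoc]

/-- Even rank. -/
theorem liftsLocal_even {m : ℕ} (Q : QuadraticForm R (Fin (2 * m) → R)) (hQ : QuadGrp.IsRegular Q) :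
    LiftsLocal Q false := by
  intro S _ _ _ I hI x₀ hx₀
  haveI := isLocalRing_quot hI
  have hQS := isRegular_baseChange S hQ
  have hQ0 := isRegular_baseChange (S ⧸ I) hQ
  have hMS : Module.finrank S (S ⊗[R] (Fin (2 * m) → R)) = 2 * m := by
    rw [Module.finrank_eq_card_basis ((Pi.basisFun R (Fin (2 * m))).baseChange S), Fintype.card_fin]
  have hM0 : Module.finrank (S ⧸ I) ((S ⧸ I) ⊗[R] (Fin (2 * m) → R)) = 2 * m := by
    rw [Module.finrank_eq_card_basis ((Pi.basisFun R (Fin (2 * m))).baseChange (S ⧸ I)), Fintype.card_fin]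
  obtain ⟨g₀, hg₀, hconj⟩ := exists_isometry_of_mem_GPin' hx₀.1.1
  obtain ⟨g, hg, -, hgr⟩ := exists_isometry_lift Q
    (Groth.L15.OrthSm.lifts_of_regular _ (Groth.L15.OrthSm.isUnit_det_of_regular Q hQ) False False.elim)
    hI hg₀ False.elim
  obtain ⟨x, -, hx, -⟩ := exists_inner hMS hQS hg
  have hd := commute_div Q hgr hconj hx
  obtain ⟨z, hz, -⟩ := exists_zed_of_regular hM0 hQ0
  obtain ⟨c, hc⟩ := exists_unit_scalar Q hI (hz.scalar_of_commute hQ0 hd)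
    (hz.scalar_of_commute hQ0 fun v => inv_commute _ (hd v))
  have hconj' := conj_mul_central Q hx (scalarUnit Q c) fun v => (Algebra.commutes _ _).symm
  refine ⟨x * scalarUnit Q c, ⟨⟨mem_GPin'_of_conj g hconj', ?_⟩, fun h => absurd h (by simp)⟩, ?_⟩
  · exact gpin'_le_LH hMS hQS (mem_GPin'_of_conj g hconj')
  · rw [Units.val_mul, map_mul, scalarUnit_val, hc, ← redU_val, Units.val_mul, Units.mul_inv_cancel_left]

section Odd

variable {m : ℕ} (Q : QuadraticForm R (Fin (2 * m + 1) → R))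
  (hQ : QuadGrp.IsSemiregular (Pi.basisFun R (Fin (2 * m + 1))) (LinearEquiv.refl R R) Q)

omit [IsLocalRing S] in
theorem parity_mul {A : Type u} [CommRing A] [Algebra R A] {x y : CA Q A} {i j : ZMod 2}
    (hx : x ∈ evenOdd (QuadGrp.baseChangeForm A Q) i) (hy : y ∈ evenOdd (QuadGrp.baseChangeForm A Q) j) :
    x * y ∈ evenOdd (QuadGrp.baseChangeForm A Q) (i + j) := SetLike.mul_mem_graded hx hy

omit [IsLocalRing S] in
theorem mapC_parity {A B : Type u} [CommRing A] [Algebra R A] [CommRing B] [Algebra R B] (φ : A →ₐ[R] B)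
    {x : CA Q A} {i : ZMod 2} (hx : x ∈ evenOdd (QuadGrp.baseChangeForm A Q) i) :
    mapC Q φ x ∈ evenOdd (QuadGrp.baseChangeForm B Q) i := by
  rcases zmod2_cases i with rfl | rfl
  · rw [← bc_oddPart_eq_zero_iff] at hx ⊢
    rw [← mapC_bc, hx, map_zero]
  · rw [← bc_oddPart_eq_self_iff] at hx ⊢
    rw [← mapC_bc, hx]

include hQ in
/-- A lift in the Clifford group, of homogeneous form. -/
theorem exists_lift_odd (hI : I ^ 2 = ⊥) {x₀ : (CA Q (S ⧸ I))ˣ}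
    (hG : x₀ ∈ QuadGrp.gpin Q (S ⧸ I)) :
    ∃ (x : (CA Q S)ˣ) (g : (S ⊗[R] (Fin (2 * m + 1) → R)) ≃ₗ[S] (S ⊗[R] (Fin (2 * m + 1) → R))) (i : ZMod 2),
      (∀ v, (x : CA Q S) * ι (QuadGrp.baseChangeForm S Q) v * (↑x⁻¹ : CA Q S) = ι (QuadGrp.baseChangeForm S Q) (g v)) ∧
      (x : CA Q S) ∈ evenOdd (QuadGrp.baseChangeForm S Q) i ∧ redU Q I x = x₀ := by
  haveI := isLocalRing_quot hI
  let bS := (Pi.basisFun R (Fin (2 * m + 1))).baseChange S
  let b0 := (Pi.basisFun R (Fin (2 * m + 1))).baseChange (S ⧸ I)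
  have hQS := isSemiregular_baseChange S (Pi.basisFun R (Fin (2 * m + 1))) hQ
  have hQ0 := isSemiregular_baseChange (S ⧸ I) (Pi.basisFun R (Fin (2 * m + 1))) hQ
  obtain ⟨hG', e, he, h0, h1⟩ := hG
  obtain ⟨g₀, hg₀, hconj⟩ := exists_isometry_of_mem_GPin' hG'
  obtain ⟨g, hg, hdet, hgr⟩ := exists_isometry_lift Q
    (Groth.L15.OrthSm.lifts_of_odd ⟨m, rfl⟩ _ (Groth.L15.OrthSm.isUnit_hd_of_semiregular Q hQ))
    hI hg₀ (fun _ => det_eq_one_of_gpin' b0 hQ0 hg₀ hconj)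
  obtain ⟨x, hxS, hx⟩ := exists_gspin_lift bS hQS hg (hdet trivial)
  have hd := commute_div Q hgr hconj hx
  have hxe : (↑(redU Q I x)⁻¹ : CA Q (S ⧸ I)) ∈ evenOdd (QuadGrp.baseChangeForm (S ⧸ I) Q) 0 :=
    units_inv_even _ (mapC_parity Q _ hxS.2)
  obtain ⟨z, hzc, hzo, hzu, -⟩ := exists_central_generator bS hQS
  have hzv := mem_center_iff_forall_ι.1 hzc
  let zu : (CA Q S)ˣ := hzu.unit
  have hz0 : ∀ v, ι (QuadGrp.baseChangeForm (S ⧸ I) Q) v * (redU Q I zu : CA Q (S ⧸ I)) =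
      (redU Q I zu : CA Q (S ⧸ I)) * ι _ v := fun v => by
    obtain ⟨w, rfl⟩ := redV_surjective v
    rw [redU_val, show (zu : CA Q S) = z from hzu.unit_spec, ← mapC_ι, ← map_mul, hzv, map_mul]
  rcases IsLocalRing.isUnit_or_isUnit_one_sub_self e with hu | hu
  · have he1 : e = 1 := hu.mul_left_cancel (he.trans (mul_one e).symm)
    rw [he1, one_smul] at h0
    set d := (redU Q I x)⁻¹ * x₀
    have hde : (d : CA Q (S ⧸ I)) ∈ evenOdd (QuadGrp.baseChangeForm (S ⧸ I) Q) 0 := by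
      have := parity_mul Q hxe h0
      rwa [zero_add, ← Units.val_mul] at this
    obtain ⟨c, hc⟩ := exists_unit_scalar Q hI (even_central_scalar b0 hQ0 hde hd)
      (even_central_scalar b0 hQ0 (units_inv_even _ hde) fun v => inv_commute _ (hd v))
    refine ⟨x * scalarUnit Q c, g, 0, conj_mul_central Q hx _ (fun v => (Algebra.commutes _ _).symm), ?_, ?_⟩
    · rw [Units.val_mul, scalarUnit_val, ← Algebra.commutes, ← Algebra.smul_def]
      exact Submodule.smul_mem _ _ hxS.2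
    · refine Units.ext ?_
      rw [map_mul, Units.val_mul, redU_val Q (scalarUnit Q c), scalarUnit_val, hc, Units.val_mul,
        Units.mul_inv_cancel_left]
  · have he0 : e = 0 := by
      have : (1 - e) = 1 := hu.mul_left_cancel ((IsIdempotentElem.one_sub he).trans (mul_one _).symm)
      linear_combination -this
    rw [he0, sub_zero, one_smul] at h1
    have hzi : (↑(redU Q I zu)⁻¹ : CA Q (S ⧸ I)) ∈ evenOdd (QuadGrp.baseChangeForm (S ⧸ I) Q) 1 := by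
      have hz1 : (redU Q I zu : CA Q (S ⧸ I)) ∈ evenOdd (QuadGrp.baseChangeForm (S ⧸ I) Q) 1 :=
        mapC_parity Q _ (show (zu : CA Q S) ∈ _ from hzu.unit_spec.symm ▸ hzo)
      have h' := QuadGrp.isLocHomog_inv_aux _ (redU Q I zu) 0
        (by rw [zero_smul]; exact Submodule.zero_mem _) (by rwa [sub_zero, one_smul])
      simpa using h'.2
    set d := (redU Q I zu)⁻¹ * ((redU Q I x)⁻¹ * x₀) with hdd
    have hde : (d : CA Q (S ⧸ I)) ∈ evenOdd (QuadGrp.baseChangeForm (S ⧸ I) Q) 0 := by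
      have := parity_mul Q hzi (parity_mul Q hxe h1)
      rw [show (1 : ZMod 2) + (0 + 1) = 0 from rfl, ← Units.val_mul, ← Units.val_mul] at this
      exact this
    have hd' : ∀ v, ι (QuadGrp.baseChangeForm (S ⧸ I) Q) v * (d : CA Q (S ⧸ I)) =
        (d : CA Q (S ⧸ I)) * ι _ v := fun v => by
      rw [hdd, Units.val_mul, ← mul_assoc, inv_commute _ (hz0 v), mul_assoc, hd v, mul_assoc]
    obtain ⟨c, hc⟩ := exists_unit_scalar Q hI (even_central_scalar b0 hQ0 hde hd')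
      (even_central_scalar b0 hQ0 (units_inv_even _ hde) fun v => inv_commute _ (hd' v))
    refine ⟨x * zu * scalarUnit Q c, g, 1, conj_mul_central Q
      (conj_mul_central Q hx zu fun v => by rw [show (zu : CA Q S) = z from hzu.unit_spec]; exact hzv v)
      _ (fun v => (Algebra.commutes _ _).symm), ?_, ?_⟩
    · rw [Units.val_mul, scalarUnit_val, ← Algebra.commutes, ← Algebra.smul_def, Units.val_mul]
      refine Submodule.smul_mem _ _ ?_
      have := parity_mul Q hxS.2 (show (zu : CA Q S) ∈ _ from hzu.unit_spec.symm ▸ hzo)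
      rwa [zero_add] at this
    · refine Units.ext ?_
      rw [map_mul, map_mul, Units.val_mul, redU_val Q (scalarUnit Q c), scalarUnit_val, hc, ← Units.val_mul, hdd,
        mul_assoc, mul_inv_cancel_left, mul_inv_cancel_left]

theorem mem_gpin_of {A : Type u} [CommRing A] [Algebra R A] {x : (CA Q A)ˣ}
    {g : (A ⊗[R] (Fin (2 * m + 1) → R)) ≃ₗ[A] (A ⊗[R] (Fin (2 * m + 1) → R))} {i : ZMod 2}
    (hx : ∀ v, (x : CA Q A) * ι (QuadGrp.baseChangeForm A Q) v * (↑x⁻¹ : CA Q A) = ι (QuadGrp.baseChangeForm A Q) (g v))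
    (hi : (x : CA Q A) ∈ evenOdd (QuadGrp.baseChangeForm A Q) i) : x ∈ QuadGrp.gpin Q A := by
  refine ⟨mem_GPin'_of_conj g hx, ?_⟩
  rcases zmod2_cases i with rfl | rfl
  · exact ⟨1, IsIdempotentElem.one, by rwa [one_smul], by rw [sub_self, zero_smul]; exact Submodule.zero_mem _⟩
  · exact ⟨0, IsIdempotentElem.zero, by rw [zero_smul]; exact Submodule.zero_mem _, by rwa [sub_zero, one_smul]⟩

include hQ in
theorem liftsLocal_gpin_odd : LiftsLocal Q false := by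
  intro S _ _ _ I hI x₀ hx₀
  obtain ⟨x, g, i, hx, hi, hr⟩ := exists_lift_odd Q hQ hI hx₀.1
  exact ⟨x, ⟨mem_gpin_of Q hx hi, fun h => absurd h (by simp)⟩, congrArg Units.val hr⟩

end Odd

end Groth.L11.GPinSm
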