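import Mathlib.RingTheory.Smooth.Locus
import Mathlib.RingTheory.FinitePresentation
import Mathlib.RingTheory.LocalRing.RingHom.Basic

/-! Formal smoothness is checked on local test rings. -/

set_option autoImplicit false
set_option linter.style.haveILetI false

universe u

namespace Groth.L11.GPinSm

variable {R A : Type u} [CommRing R] [CommRing A] [Algebra R A]

/-- The lifting property for local test rings. -/
def LocalLifts (R A : Type u) [CommRing R] [CommRing A] [Algebra R A] : Prop :=
  ∀ (S : Type u) [CommRing S] [Algebra R S] [IsLocalRing S] (I : Ideal S), I ^ 2 = ⊥ →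
    ∀ g₀ : A →ₐ[R] S ⧸ I, ∃ g : A →ₐ[R] S, (Ideal.Quotient.mkₐ R I).comp g = g₀

theorem formallySmooth_localization_of_lifts (hA : LocalLifts R A) (M : Submonoid A)
    (T : Type u) [CommRing T] [Algebra A T] [Algebra R T] [IsScalarTower R A T] [IsLocalization M T]
    [Nontrivial T] (P : Type u) [CommRing P] [IsLocalRing P] [Algebra R P] [Algebra.FormallySmooth R P]
    (f : P →ₐ[R] T) (hf : Function.Surjective f) : Algebra.FormallySmooth R T := by
  have surj : Function.Surjective f.kerSquareLift :=
    Ideal.Quotient.lift_surjective_of_surjective _ _ hf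
  haveI : Nontrivial (P ⧸ RingHom.ker f.toRingHom ^ 2) := f.kerSquareLift.toRingHom.domain_nontrivial
  haveI : IsLocalRing (P ⧸ RingHom.ker f.toRingHom ^ 2) :=
    IsLocalRing.of_surjective' (Ideal.Quotient.mk _) Ideal.Quotient.mk_surjective
  haveI : IsLocalRing (P ⧸ RingHom.ker f ^ 2) := ‹IsLocalRing (P ⧸ RingHom.ker f.toRingHom ^ 2)›
  have sqz : RingHom.ker f.kerSquareLift.toRingHom ^ 2 = ⊥ := by
    rw [AlgHom.ker_kerSquareLift, Ideal.cotangentIdeal_square]
  dsimp only [AlgHom.toRingHom_eq_coe, RingHom.ker_coe_toRingHom] at sqz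
  obtain ⟨g, hg⟩ := hA _ _ sqz
    ((Ideal.quotientKerAlgEquivOfSurjective surj).symm.toAlgHom.comp (IsScalarTower.toAlgHom R A T))
  have hgA : ∀ a, f.kerSquareLift (g a) = algebraMap A T a := fun a => by
    have := congrArg (Ideal.quotientKerAlgEquivOfSurjective surj) (DFunLike.congr_fun hg a)
    exact this.trans ((Ideal.quotientKerAlgEquivOfSurjective surj).apply_symm_apply _)
  haveI : IsLocalHom f.kerSquareLift.toRingHom := IsLocalHom.of_surjective _ surj
  have hu : ∀ s : M, IsUnit (g s) := fun s =>
    isUnit_of_map_unit f.kerSquareLift.toRingHom _ (by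
      show IsUnit (f.kerSquareLift (g s))
      rw [hgA]
      exact IsLocalization.map_units _ s)
  refine Algebra.FormallySmooth.of_split f (IsLocalization.liftAlgHom (f := g) hu) ?_
  refine IsLocalization.algHom_ext M (AlgHom.ext fun a => ?_)
  show f.kerSquareLift (IsLocalization.liftAlgHom hu (algebraMap A T a)) = algebraMap A T a
  rw [IsLocalization.coe_liftAlgHom, IsLocalization.lift_eq]
  exact hgA a

/-- A finitely presented algebra with the lifting property for local test rings is formally smooth. -/
theorem formallySmooth_of_local_lifts [Algebra.FinitePresentation R A] (h : LocalLifts R A) :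
    Algebra.FormallySmooth R A := by
  rw [← Algebra.smoothLocus_eq_univ_iff, Set.eq_univ_iff_forall]
  intro p
  obtain ⟨n, f₀, hf₀⟩ := Algebra.FiniteType.iff_quotient_mvPolynomial''.1
    (inferInstance : Algebra.FiniteType R A)
  let q : Ideal (MvPolynomial (Fin n) R) := p.asIdeal.comap f₀.toRingHom
  haveI : q.IsPrime := Ideal.comap_isPrime _ _
  haveI : Algebra.FormallySmooth (MvPolynomial (Fin n) R) (Localization.AtPrime q) :=
    Algebra.FormallySmooth.of_isLocalization q.primeCompl
  haveI : Algebra.FormallySmooth R (Localization.AtPrime q) :=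
    Algebra.FormallySmooth.comp R (MvPolynomial (Fin n) R) _
  have hu : ∀ s : q.primeCompl,
      IsUnit ((IsScalarTower.toAlgHom R A (Localization.AtPrime p.asIdeal)).comp f₀ s) := fun s =>
    IsLocalization.map_units (Localization.AtPrime p.asIdeal) (⟨f₀ s, s.2⟩ : p.asIdeal.primeCompl)
  refine formallySmooth_localization_of_lifts h p.asIdeal.primeCompl _ (Localization.AtPrime q)
    (IsLocalization.liftAlgHom hu) fun y => ?_
  obtain ⟨a, ⟨s, hs⟩, rfl⟩ := IsLocalization.exists_mk'_eq p.asIdeal.primeCompl y
  obtain ⟨a', rfl⟩ := hf₀ a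
  obtain ⟨s', rfl⟩ := hf₀ s
  refine ⟨IsLocalization.mk' _ a' (⟨s', hs⟩ : q.primeCompl), ?_⟩
  rw [IsLocalization.coe_liftAlgHom, IsLocalization.lift_mk'_spec]
  exact (IsLocalization.mk'_spec' (Localization.AtPrime p.asIdeal) (f₀ a')
    (⟨f₀ s', hs⟩ : p.asIdeal.primeCompl)).symm

end Groth.L11.GPinSm
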