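import Groth.Agent.L11.GPinSm.Lift

/-!
Lifting points of the pin group in odd rank.
-/

set_option autoImplicit false
set_option linter.style.haveILetI false

noncomputable section

universe u

open TensorProduct CliffordAlgebra

namespace Groth.L11.GPinSm

open Groth.L15.QG

variable {R : Type u} [CommRing R] {m : ℕ} (Q : QuadraticForm R (Fin (2 * m + 1) → R))
  (hQ : QuadGrp.IsSemiregular (Pi.basisFun R (Fin (2 * m + 1))) (LinearEquiv.refl R R) Q)
  {S : Type u} [CommRing S] [Algebra R S]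

local notation "QS" => QuadGrp.baseChangeForm S Q

include hQ in
theorem exists_unit_polar [IsLocalRing S] (hm : 1 ≤ m) :
    ∃ p q : S ⊗[R] (Fin (2 * m + 1) → R), IsUnit (QuadraticMap.polar QS p q) := by
  have hmin := minorsUnit_of_semiregular m hm Q hQ
  let P := (IsLocalRing.maximalIdeal S).comap (algebraMap R S)
  obtain ⟨M, hM, hPM⟩ := Ideal.exists_le_maximal P (Ideal.IsPrime.ne_top inferInstance)
  obtain ⟨i, j, a, b, hab⟩ := hmin M hM
  obtain ⟨s, t, hst⟩ : ∃ s t, Groth.L15.polarMat (Pi.basisFun R (Fin (2 * m + 1))) Q s t ∉ M := by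
    by_contra hc
    push Not at hc
    exact hab (M.sub_mem (M.mul_mem_right _ (hc a i)) (M.mul_mem_right _ (hc a j)))
  refine ⟨(1 : S) ⊗ₜ[R] Pi.basisFun R _ s, (1 : S) ⊗ₜ[R] Pi.basisFun R _ t, ?_⟩
  rw [polar_one_tmul]
  by_contra h
  exact hst (hPM ((IsLocalRing.mem_maximalIdeal _).2 h))

theorem polar_ι (p q : S ⊗[R] (Fin (2 * m + 1) → R)) :
    ι QS p * ι QS q + ι QS q * ι QS p = algebraMap S _ (QuadraticMap.polar QS p q) :=
  CliffordAlgebra.ι_mul_ι_add_swap p q

theorem star_pair (p q : S ⊗[R] (Fin (2 * m + 1) → R)) :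
    star (ι QS p * ι QS q) = ι QS q * ι QS p := by
  rw [star_mul, CliffordAlgebra.star_ι, CliffordAlgebra.star_ι, neg_mul_neg]

/-- The infinitesimal rotation. -/
def rot (p q : S ⊗[R] (Fin (2 * m + 1) → R)) :
    (S ⊗[R] (Fin (2 * m + 1) → R)) →ₗ[S] (S ⊗[R] (Fin (2 * m + 1) → R)) :=
  ((QuadraticMap.polarBilin QS) q).smulRight p - ((QuadraticMap.polarBilin QS) p).smulRight q

theorem commutator_pair (p q v : S ⊗[R] (Fin (2 * m + 1) → R)) :
    ι QS p * ι QS q * ι QS v - ι QS v * (ι QS p * ι QS q) = ι QS (rot Q p q v) := by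
  have h1 := polar_ι Q q v
  have h2 := polar_ι Q p v
  have e : ι QS p * ι QS q * ι QS v - ι QS v * (ι QS p * ι QS q) =
      ι QS p * (ι QS q * ι QS v + ι QS v * ι QS q) - (ι QS p * ι QS v + ι QS v * ι QS p) * ι QS q := by
    noncomm_ring
  rw [e, h1, h2, rot, ← Algebra.commutes, ← Algebra.smul_def, ← Algebra.smul_def]
  simp only [LinearMap.sub_apply, LinearMap.smulRight_apply, map_sub, map_smul,
    QuadraticMap.polarBilin_apply_apply]

/-- `1 + i p q` for `i² = 0`. -/
def nudge (p q : S ⊗[R] (Fin (2 * m + 1) → R)) {i : S} (hi : i * i = 0) : (CA Q S)ˣ where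
  val := 1 + i • (ι QS p * ι QS q)
  inv := 1 - i • (ι QS p * ι QS q)
  val_inv := by
    rw [add_mul, one_mul, mul_sub, mul_one, smul_mul_smul_comm, hi, zero_smul, sub_zero, sub_add_cancel]
  inv_val := by
    rw [sub_mul, one_mul, mul_add, mul_one, smul_mul_smul_comm, hi, zero_smul, add_zero, add_sub_cancel_right]

theorem sq_zero_conj {A : Type u} [Ring A] [Algebra S A] {i : S} (hi : i * i = 0) (X Y : A) :
    (1 + i • X) * Y * (1 - i • X) = Y + i • (X * Y - Y * X) := by
  simp only [mul_sub, add_mul, mul_add, one_mul, mul_one, smul_mul_assoc, mul_smul_comm, smul_smul, hi, zero_smul,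
    smul_sub, smul_add, add_zero, sub_zero]
  abel

theorem nudge_conj (p q : S ⊗[R] (Fin (2 * m + 1) → R)) {i : S} (hi : i * i = 0)
    (v : S ⊗[R] (Fin (2 * m + 1) → R)) :
    (nudge Q p q hi : CA Q S) * ι QS v * (↑(nudge Q p q hi)⁻¹ : CA Q S) = ι QS (v + i • rot Q p q v) := by
  show (1 + i • (ι QS p * ι QS q)) * ι QS v * (1 - i • (ι QS p * ι QS q)) = _
  rw [map_add, map_smul, ← commutator_pair]
  exact sq_zero_conj hi _ _

theorem nudge_even (p q : S ⊗[R] (Fin (2 * m + 1) → R)) {i : S} (hi : i * i = 0) :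
    (nudge Q p q hi : CA Q S) ∈ evenOdd QS 0 :=
  Submodule.add_mem _ (SetLike.one_mem_graded _) (Submodule.smul_mem _ _ (ι_mul_ι_mem_evenOdd_zero _ _ _))

theorem nudge_norm (p q : S ⊗[R] (Fin (2 * m + 1) → R)) {i : S} (hi : i * i = 0) :
    star (nudge Q p q hi : CA Q S) * (nudge Q p q hi : CA Q S) =
      algebraMap S _ (1 + i * QuadraticMap.polar QS p q) := by
  show star (1 + i • (ι QS p * ι QS q)) * (1 + i • (ι QS p * ι QS q)) = _
  rw [star_add, star_one, CliffordAlgebra.star_smul, star_pair, add_mul, one_mul, mul_add, mul_one,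
    smul_mul_smul_comm, hi, zero_smul, add_zero, map_add, map_one, map_mul, ← polar_ι, ← Algebra.smul_def,
    smul_add]
  abel

theorem nudge_mem_gpin (p q : S ⊗[R] (Fin (2 * m + 1) → R)) {i : S} (hi : i * i = 0) :
    nudge Q p q hi ∈ QuadGrp.gpin Q S := by
  have h2 : ∀ v, i • rot Q p q (i • rot Q p q v) = 0 := fun v => by
    rw [map_smul, smul_smul, hi, zero_smul]
  refine mem_gpin_of Q (g := LinearEquiv.ofLinear (LinearMap.id + i • rot Q p q) (LinearMap.id - i • rot Q p q)
    (LinearMap.ext fun v => ?_) (LinearMap.ext fun v => ?_)) (fun v => (nudge_conj Q p q hi v).trans rfl) (nudge_even Q p q hi)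
  · simp only [LinearMap.comp_apply, LinearMap.add_apply, LinearMap.sub_apply, LinearMap.id_apply,
      LinearMap.smul_apply, map_sub, smul_sub, h2]
    abel
  · simp only [LinearMap.comp_apply, LinearMap.add_apply, LinearMap.sub_apply, LinearMap.id_apply,
      LinearMap.smul_apply, map_add, smul_add, h2]
    abel

include hQ in
/-- The Clifford norm of a homogeneous element of the Clifford group is a scalar. -/
theorem exists_norm {x : (CA Q S)ˣ} {g : (S ⊗[R] (Fin (2 * m + 1) → R)) ≃ₗ[S] (S ⊗[R] (Fin (2 * m + 1) → R))}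
    {j : ZMod 2} (hx : ∀ v, (x : CA Q S) * ι QS v * (↑x⁻¹ : CA Q S) = ι QS (g v))
    (hj : (x : CA Q S) ∈ evenOdd QS j) : ∃ a : S, star (x : CA Q S) * x = algebraMap S _ a := by
  have hs : star (x : CA Q S) ∈ evenOdd QS j := by
    rw [star_def, reverse_mem_evenOdd_iff, involute_mem_evenOdd_iff]
    exact hj
  have he : star (x : CA Q S) * x ∈ evenOdd QS 0 := by
    have h' := parity_mul Q hs hj
    rwa [show j + j = 0 by rcases zmod2_cases j with rfl | rfl <;> rfl] at h'
  obtain ⟨a, ha⟩ := even_central_scalar ((Pi.basisFun R (Fin (2 * m + 1))).baseChange S)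
    (isSemiregular_baseChange S (Pi.basisFun R (Fin (2 * m + 1))) hQ) he fun v => by
    have hxv : (x : CA Q S) * ι QS v = ι QS (g v) * x := by
      rw [← hx, mul_assoc, Units.inv_mul, mul_one]
    have hstar : ι QS v * star (x : CA Q S) = star (x : CA Q S) * ι QS (g v) := by
      have := congrArg star hxv
      rw [star_mul, star_mul, CliffordAlgebra.star_ι, CliffordAlgebra.star_ι, neg_mul, mul_neg, neg_inj] at this
      exact this
    rw [← mul_assoc, hstar, mul_assoc, ← hxv, mul_assoc]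
  exact ⟨a, ha.symm⟩

include hQ in
theorem liftsLocal_pin_odd (hm : 1 ≤ m) : LiftsLocal Q true := by
  intro S _ _ _ I hI x₀ hx₀
  obtain ⟨x, g, j, hx, hj, hr⟩ := exists_lift_odd Q hQ hI hx₀.1
  obtain ⟨a, ha⟩ := exists_norm Q hQ hx hj
  obtain ⟨p, q, hpq⟩ := exists_unit_polar Q hQ (S := S) hm
  have haI : a - 1 ∈ I := by
    rw [← Ideal.Quotient.eq, map_one]
    haveI := isLocalRing_quot hI
    apply Groth.L15.QG.algebraMap_injective (QuadGrp.baseChangeForm (S ⧸ I) Q)
    have := congrArg (mapC Q (Ideal.Quotient.mkₐ R I)) ha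
    rw [map_mul, mapC_star, ← redU_val, hr, mapC_algebraMap] at this
    rw [map_one]
    exact this.symm.trans (hx₀.2 rfl)
  obtain ⟨B, hB⟩ := hpq
  let i : S := -((a - 1) * (↑B⁻¹ : S))
  have hiI : i ∈ I := I.neg_mem (I.mul_mem_right _ haI)
  have hi : i * i = 0 := Groth.L15.OrthSm.mul_eq_zero_of_mem hI hiI hiI
  refine ⟨x * nudge Q p q hi, ⟨(QuadGrp.gpin Q S).mul_mem (mem_gpin_of Q hx hj) (nudge_mem_gpin Q p q hi),
    fun _ => ?_⟩, ?_⟩
  · rw [Units.val_mul, star_mul, mul_assoc, ← mul_assoc (star (x : CA Q S)), ha, Algebra.commutes,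
      ← mul_assoc, nudge_norm, ← map_mul, ← map_one (algebraMap S (CA Q S)), ← hB]
    congr 1
    have h2 := Groth.L15.OrthSm.mul_eq_zero_of_mem hI haI haI
    show (1 + -((a - 1) * (↑B⁻¹ : S)) * (B : S)) * a = 1
    linear_combination -h2 - (a - 1) * a * B.inv_mul
  · rw [Units.val_mul, map_mul, ← redU_val, hr]
    have : mapC Q (Ideal.Quotient.mkₐ R I) (nudge Q p q hi : CA Q S) = 1 := by
      show mapC Q _ (1 + i • (ι (QuadGrp.baseChangeForm S Q) p * ι (QuadGrp.baseChangeForm S Q) q)) = 1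
      rw [map_add, map_one, mapC_smul, show Ideal.Quotient.mkₐ R I i = 0 from Ideal.Quotient.eq_zero_iff_mem.2 hiI,
        zero_smul, add_zero]
    rw [this, mul_one]

end Groth.L11.GPinSm
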