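import Groth.Agent.L11.GPinSm.Coords
import Groth.Agent.L11.GPinSm.Local
import Groth.Agent.L15.OrthSm.Pts
import Groth.Prelude.Def_QuadGrp2

/-!
A presentation of the Clifford and pin group schemes, and the smoothness criterion.
-/

set_option autoImplicit false
set_option linter.style.haveILetI false

noncomputable section

universe u

open CategoryTheory AlgebraicGeometry TensorProduct CliffordAlgebra
open scoped MonObj

namespace Groth.L11.GPinSm

open Groth.L15.QG

variable {R : Type u} [CommRing R] {n : ℕ} (Q : QuadraticForm R (Fin n → R)) (sp : Bool)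

/-- The list of equations. -/
abbrev EqIdx (n : ℕ) : Type := Fin 6 ⊕ (Fin n ⊕ Fin n)

section points

variable {A B : Type u} [CommRing A] [Algebra R A] [CommRing B] [Algebra R B]

/-- The vector `1 ⊗ eᵢ` in the Clifford algebra. -/
def vec (A : Type u) [CommRing A] [Algebra R A] (i : Fin n) : CA Q A := toC A Q (CliffordAlgebra.ι Q (Pi.single i 1))

/-- The error terms of the equations. -/
def err (u v : CA Q A) (e : A) : EqIdx n → CA Q A
  | Sum.inl 0 => u * v - 1
  | Sum.inl 1 => v * u - 1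
  | Sum.inl 2 => algebraMap A _ (e * e - e)
  | Sum.inl 3 => bc Q A (oddPart Q) (e • u)
  | Sum.inl 4 => bc Q A (oddPart Q) ((1 - e) • u) - (1 - e) • u
  | Sum.inl 5 => if sp then star u * u - 1 else 0
  | Sum.inr (Sum.inl i) => bc Q A (nonVec Q) (u * vec Q A i * v)
  | Sum.inr (Sum.inr i) => bc Q A (nonVec Q) (v * vec Q A i * u)

/-- The equations. -/
def Cond (u v : CA Q A) (e : A) : Prop := ∀ j, err Q sp u v e j = 0

theorem mapC_vec (φ : A →ₐ[R] B) (i : Fin n) : mapC Q φ (vec Q A i) = vec Q B i := mapC_toC Q φ _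

theorem mapC_err (φ : A →ₐ[R] B) (u v : CA Q A) (e : A) (j : EqIdx n) :
    mapC Q φ (err Q sp u v e j) = err Q sp (mapC Q φ u) (mapC Q φ v) (φ e) j := by
  obtain (j | (i | i)) := j
  · fin_cases j
    · simp [err]
    · simp [err]
    · simp [err, mapC_algebraMap]
    · simp [err, mapC_bc, mapC_smul]
    · simp [err, mapC_bc, mapC_smul]
    · cases sp <;> simp [err, mapC_star]
  · simp [err, mapC_bc, mapC_vec]
  · simp [err, mapC_bc, mapC_vec]

theorem Cond.map {u v : CA Q A} {e : A} (h : Cond Q sp u v e) (φ : A →ₐ[R] B) :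
    Cond Q sp (mapC Q φ u) (mapC Q φ v) (φ e) := fun j => by rw [← mapC_err, h j, map_zero]

theorem Cond.mul_inv {u v : CA Q A} {e : A} (h : Cond Q sp u v e) : u * v = 1 :=
  sub_eq_zero.1 (h (Sum.inl 0))

theorem Cond.inv_mul {u v : CA Q A} {e : A} (h : Cond Q sp u v e) : v * u = 1 :=
  sub_eq_zero.1 (h (Sum.inl 1))

theorem Cond.idem {u v : CA Q A} {e : A} (h : Cond Q sp u v e) : IsIdempotentElem e :=
  sub_eq_zero.1 (Groth.L15.QG.algebraMap_injective _ ((h (Sum.inl 2)).trans (map_zero _).symm))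

theorem Cond.even {u v : CA Q A} {e : A} (h : Cond Q sp u v e) :
    e • u ∈ evenOdd (QuadGrp.baseChangeForm A Q) 0 :=
  (bc_oddPart_eq_zero_iff Q _).1 (h (Sum.inl 3))

theorem Cond.odd {u v : CA Q A} {e : A} (h : Cond Q sp u v e) :
    (1 - e) • u ∈ evenOdd (QuadGrp.baseChangeForm A Q) 1 :=
  (bc_oddPart_eq_self_iff Q _).1 (sub_eq_zero.1 (h (Sum.inl 4)))

theorem Cond.norm {u v : CA Q A} {e : A} (h : Cond Q true u v e) : star u * u = 1 :=
  sub_eq_zero.1 (h (Sum.inl 5))

theorem eq_of_parity {u v : CA Q A} (huv : u * v = 1) {e f : A} (he : IsIdempotentElem e)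
    (hf : IsIdempotentElem f) (he0 : e • u ∈ evenOdd (QuadGrp.baseChangeForm A Q) 0)
    (he1 : (1 - e) • u ∈ evenOdd (QuadGrp.baseChangeForm A Q) 1)
    (hf0 : f • u ∈ evenOdd (QuadGrp.baseChangeForm A Q) 0)
    (hf1 : (1 - f) • u ∈ evenOdd (QuadGrp.baseChangeForm A Q) 1) : e = f := by
  have key : ∀ a c : A, a • u ∈ evenOdd (QuadGrp.baseChangeForm A Q) 0 →
      c • u ∈ evenOdd (QuadGrp.baseChangeForm A Q) 1 → a * c = 0 := by
    intro a c ha hc
    have h0 : (a * c) • u = 0 := eq_zero_of_even_odd _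
      (by rw [mul_comm, mul_smul]; exact Submodule.smul_mem _ _ ha)
      (by rw [mul_smul]; exact Submodule.smul_mem _ _ hc)
    apply Groth.L15.QG.algebraMap_injective (QuadGrp.baseChangeForm A Q)
    rw [map_zero, Algebra.algebraMap_eq_smul_one, ← huv, ← smul_mul_assoc, h0, zero_mul]
  linear_combination key e (1 - f) he0 hf1 - key f (1 - e) hf0 he1

theorem toC_single_span (A : Type u) [CommRing A] [Algebra R A] :
    Submodule.span A (Set.range (vec Q A)) = LinearMap.range (CliffordAlgebra.ι (QuadGrp.baseChangeForm A Q)) := by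
  have hv : vec Q A = fun i => CliffordAlgebra.ι (QuadGrp.baseChangeForm A Q)
      (((Pi.basisFun R (Fin n)).baseChange A) i) := funext fun i => by
    rw [vec, toC_ι, Module.Basis.baseChange_apply, Pi.basisFun_apply]
  rw [hv, show (fun i => CliffordAlgebra.ι (QuadGrp.baseChangeForm A Q) (((Pi.basisFun R (Fin n)).baseChange A) i)) =
    CliffordAlgebra.ι (QuadGrp.baseChangeForm A Q) ∘ ((Pi.basisFun R (Fin n)).baseChange A) from rfl, Set.range_comp,
    ← Submodule.map_span, Module.Basis.span_eq, Submodule.map_top]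

/-- Points of `GPin` (with norm one if `sp`). -/
def Grp (A : Type u) [CommRing A] [Algebra R A] (x : (CA Q A)ˣ) : Prop :=
  x ∈ QuadGrp.gpin Q A ∧ (sp = true → star (x : CA Q A) * x = 1)

theorem exists_cond {x : (CA Q A)ˣ} (h : Grp Q sp A x) : ∃ e : A, Cond Q sp (x : CA Q A) ↑x⁻¹ e := by
  obtain ⟨⟨hG, e, he, h0, h1⟩, hsp⟩ := h
  refine ⟨e, fun j => ?_⟩
  have hmem : ∀ y ∈ QuadGrp.GPin' (QuadGrp.baseChangeForm A Q), ∀ i,
      bc Q A (nonVec Q) ((y : CA Q A) * vec Q A i * ↑y⁻¹) = 0 := by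
    intro y hy i
    obtain ⟨g, -, hg⟩ := exists_isometry_of_mem_GPin' hy
    rw [bc_nonVec_eq_zero_iff, vec, toC_ι, hg]
    exact ⟨_, rfl⟩
  obtain (j | (i | i)) := j
  · fin_cases j
    · simp [err]
    · simp [err]
    · simp [err, he.eq]
    · exact (bc_oddPart_eq_zero_iff Q _).2 h0
    · exact sub_eq_zero.2 ((bc_oddPart_eq_self_iff Q _).2 h1)
    · show (if sp then star (x : CA Q A) * x - 1 else 0) = 0
      split_ifs with hs
      · rw [hsp hs, sub_self]
      · rfl
  · exact hmem x hG i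
  · show bc Q A (nonVec Q) _ = 0
    simpa using hmem x⁻¹ ((QuadGrp.GPin' _).inv_mem hG) i

theorem grp_of_cond {x : (CA Q A)ˣ} {v : CA Q A} {e : A} (h : Cond Q sp (x : CA Q A) v e) :
    Grp Q sp A x := by
  have hv : v = ↑x⁻¹ := (Units.inv_eq_of_mul_eq_one_right h.mul_inv).symm
  subst hv
  refine ⟨⟨?_, e, h.idem, h.even, h.odd⟩, fun hs => by subst hs; exact h.norm⟩
  have hstab : ∀ (y : (CA Q A)ˣ), (∀ i, bc Q A (nonVec Q) ((y : CA Q A) * vec Q A i * ↑y⁻¹) = 0) →
      ∀ z ∈ LinearMap.range (CliffordAlgebra.ι (QuadGrp.baseChangeForm A Q)),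
        (y : CA Q A) * z * ↑y⁻¹ ∈ LinearMap.range (CliffordAlgebra.ι (QuadGrp.baseChangeForm A Q)) := by
    intro y hy z hz
    rw [← toC_single_span] at hz
    induction hz using Submodule.span_induction with
    | mem z hz => obtain ⟨i, rfl⟩ := hz; exact (bc_nonVec_eq_zero_iff Q _).1 (hy i)
    | zero => simp
    | add a c _ _ ha hc => rw [mul_add, add_mul]; exact Submodule.add_mem _ ha hc
    | smul r a _ ha => rw [mul_smul_comm, smul_mul_assoc]; exact Submodule.smul_mem _ r ha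
  show x ∈ QuadGrp.GPin' _
  rw [QuadGrp.mem_GPin']
  ext z
  rw [Submodule.mem_smul_pointwise_iff_exists]
  constructor
  · rintro ⟨w, hw, rfl⟩
    rw [ConjAct.units_smul_def]
    exact hstab x (fun i => h (Sum.inr (Sum.inl i))) w hw
  · intro hz
    refine ⟨(↑x⁻¹ : CA Q A) * z * x, ?_, ?_⟩
    · have := hstab x⁻¹ (fun i => by rw [inv_inv]; exact h (Sum.inr (Sum.inr i))) z hz
      simpa using this
    · rw [ConjAct.units_smul_def]
      show (x : CA Q A) * ((↑x⁻¹ : CA Q A) * z * x) * ↑x⁻¹ = z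
      simp [mul_assoc]

end points

section universal

/-- The variables. -/
abbrev Var (n : ℕ) : Type := (Finset (Fin n) ⊕ Finset (Fin n)) ⊕ Unit

variable (R n) in
/-- The polynomial ring. -/
abbrev P : Type u := MvPolynomial (Var n) R

/-- The generic unit. -/
def genU : CA Q (P R n) := ∑ s, (MvPolynomial.X (Sum.inl (Sum.inl s)) : P R n) • coord Q (P R n) s

/-- The generic inverse. -/
def genV : CA Q (P R n) := ∑ s, (MvPolynomial.X (Sum.inl (Sum.inr s)) : P R n) • coord Q (P R n) s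

/-- The generic idempotent. -/
def genE : P R n := MvPolynomial.X (Sum.inr ())

/-- The ideal of the equations. -/
def eqns : Ideal (P R n) :=
  Ideal.span (Set.range fun q : EqIdx n × Finset (Fin n) =>
    (coord Q (P R n)).repr (err Q sp (genU Q) (genV Q) genE q.1) q.2)

/-- The coordinate ring. -/
abbrev Univ : Type u := P R n ⧸ eqns Q sp

theorem finitePresentation_univ : Algebra.FinitePresentation R (Univ Q sp) :=
  Algebra.FinitePresentation.quotient (Submodule.fg_span (Set.finite_range _))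

/-- The quotient map. -/
abbrev mkU : P R n →ₐ[R] Univ Q sp := Ideal.Quotient.mkₐ R (eqns Q sp)

theorem cond_univ :
    Cond Q sp (mapC Q (mkU Q sp) (genU Q)) (mapC Q (mkU Q sp) (genV Q)) (mkU Q sp genE) := fun j => by
  rw [← mapC_err, mapC_eq_zero]
  exact fun s => Ideal.Quotient.eq_zero_iff_mem.2 (Ideal.subset_span ⟨(j, s), rfl⟩)

variable {B : Type u} [CommRing B] [Algebra R B]

theorem exists_hom {u v : CA Q B} {e : B} (h : Cond Q sp u v e) :
    ∃ φ : Univ Q sp →ₐ[R] B, mapC Q φ (mapC Q (mkU Q sp) (genU Q)) = u := by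
  let ψ : P R n →ₐ[R] B := MvPolynomial.aeval
    (Sum.elim (Sum.elim (fun s => (coord Q B).repr u s) (fun s => (coord Q B).repr v s)) fun _ => e)
  have hU : ∀ (c : Finset (Fin n) → P R n) (x : CA Q B), (∀ s, ψ (c s) = (coord Q B).repr x s) →
      mapC Q ψ (∑ s, c s • coord Q (P R n) s) = x := by
    intro c x hc
    refine (coord Q B).repr.injective (Finsupp.ext fun s => ?_)
    rw [repr_mapC, ← hc]
    congr 1
    exact congrFun ((coord Q (P R n)).equivFun.apply_symm_apply c |>.symm.trans (congrArg _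
      ((coord Q (P R n)).equivFun_symm_apply c)) |>.symm) s
  have hu : mapC Q ψ (genU Q) = u := hU _ u fun s => by simp [ψ]
  have hv : mapC Q ψ (genV Q) = v := hU _ v fun s => by simp [ψ]
  have he : ψ (genE (R := R) (n := n)) = e := by simp [ψ, genE]
  have hker : eqns Q sp ≤ RingHom.ker ψ := by
    refine Ideal.span_le.2 ?_
    rintro _ ⟨⟨j, s⟩, rfl⟩
    refine (mapC_eq_zero Q ψ _).1 ?_ s
    rw [mapC_err, hu, hv, he]
    exact h j
  refine ⟨Ideal.Quotient.liftₐ _ ψ hker, ?_⟩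
  refine (coord Q B).repr.injective (Finsupp.ext fun s => ?_)
  rw [repr_mapC, repr_mapC, ← hu, repr_mapC]
  rfl

theorem hom_injective {φ φ' : Univ Q sp →ₐ[R] B}
    (h : mapC Q φ (mapC Q (mkU Q sp) (genU Q)) = mapC Q φ' (mapC Q (mkU Q sp) (genU Q))) : φ = φ' := by
  have c := (cond_univ Q sp).map Q sp φ
  have c' := (cond_univ Q sp).map Q sp φ'
  rw [← h] at c'
  have hV : mapC Q φ (mapC Q (mkU Q sp) (genV Q)) = mapC Q φ' (mapC Q (mkU Q sp) (genV Q)) :=
    left_inv_eq_right_inv c.inv_mul c'.mul_inv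
  have hE : φ (mkU Q sp genE) = φ' (mkU Q sp genE) :=
    eq_of_parity Q c.mul_inv c.idem c'.idem c.even c.odd c'.even c'.odd
  have hX : ∀ (c : Finset (Fin n) → P R n) (s : Finset (Fin n)),
      (coord Q (P R n)).repr (∑ t, c t • coord Q (P R n) t) s = c s := fun c s => by
    exact congrFun ((coord Q (P R n)).equivFun.apply_symm_apply c |>.symm.trans (congrArg _
      ((coord Q (P R n)).equivFun_symm_apply c)) |>.symm) s
  have key : ∀ (c : Finset (Fin n) → P R n),
      mapC Q φ (mapC Q (mkU Q sp) (∑ t, c t • coord Q (P R n) t)) =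
        mapC Q φ' (mapC Q (mkU Q sp) (∑ t, c t • coord Q (P R n) t)) →
      ∀ s, φ (mkU Q sp (c s)) = φ' (mkU Q sp (c s)) := fun c hc s => by
    have := congrArg (fun z => (coord Q B).repr z s) hc
    simpa only [repr_mapC, hX] using this
  refine Ideal.Quotient.algHom_ext _ (MvPolynomial.algHom_ext fun o => ?_)
  rcases o with (s | s) | ⟨⟩
  · exact key _ h s
  · exact key _ hV s
  · exact hE

end universal

section criterion

variable (T : ∀ (A : Type u) [CommRing A] [Algebra R A], Subgroup (CA Q A)ˣ)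
  (G : Over (Spec (CommRingCat.of R))) [GrpObj G]

/-- Lifting for local test rings. -/
def LiftsLocal : Prop :=
  ∀ (S : Type u) [CommRing S] [Algebra R S] [IsLocalRing S] (I : Ideal S), I ^ 2 = ⊥ →
    ∀ x₀ : (CA Q (S ⧸ I))ˣ, Grp Q sp (S ⧸ I) x₀ →
      ∃ x : (CA Q S)ˣ, Grp Q sp S x ∧ mapC Q (Ideal.Quotient.mkₐ R I) (x : CA Q S) = x₀

/-- The smoothness criterion, with affineness. -/
theorem smooth_and_affine (hT : ∀ (A : Type u) [CommRing A] [Algebra R A] (x : (CA Q A)ˣ),
      x ∈ T A ↔ Grp Q sp A x)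
    (D : QuadGrp.CliffRep Q T G) (hl : LiftsLocal Q sp) :
    AlgebraicGeometry.Smooth G.hom ∧ IsAffineHom G.hom := by
  have cu := cond_univ Q sp
  let x₀ : (CA Q (Univ Q sp))ˣ := ⟨_, _, cu.mul_inv, cu.inv_mul⟩
  let y := (D.pts (Univ Q sp)).symm ⟨x₀, (hT _ x₀).2 (grp_of_cond Q sp (x := x₀) cu)⟩
  have hy : ∀ (B : Type u) [CommRing B] [Algebra R B] (φ : Univ Q sp →ₐ[R] B),
      ((D.pts B (QuadGrp.specOverMap R φ ≫ y)).1 : CA Q B) = mapC Q φ (x₀ : CA Q (Univ Q sp)) := by
    intro B _ _ φ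
    rw [D.natural _ B φ (mapC Q φ).toRingHom (mapC_ι Q φ) (mapC_algebraMap Q φ) y]
    simp only [y, MulEquiv.apply_symm_apply]
    rfl
  have hbij : ∀ (B : Type u) [CommRing B] [Algebra R B],
      Function.Bijective fun φ : Univ Q sp →ₐ[R] B => QuadGrp.specOverMap R φ ≫ y := by
    intro B _ _
    refine ⟨fun φ φ' h => hom_injective Q sp ?_, fun m => ?_⟩
    · rw [show mapC Q (mkU Q sp) (genU Q) = (x₀ : CA Q (Univ Q sp)) from rfl, ← hy B φ, ← hy B φ']
      exact congrArg (fun z => ((D.pts B z).1 : CA Q B)) h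
    · obtain ⟨e, he⟩ := exists_cond Q sp ((hT _ _).1 (D.pts B m).2)
      obtain ⟨φ, hφ⟩ := exists_hom Q sp he
      exact ⟨φ, (D.pts B).injective (Subtype.ext (Units.ext ((hy B φ).trans hφ)))⟩
  haveI := finitePresentation_univ Q sp
  have hfs : Algebra.FormallySmooth R (Univ Q sp) := by
    refine formallySmooth_of_local_lifts fun S _ _ _ I hI g₀ => ?_
    have c := cu.map Q sp g₀
    obtain ⟨x, hx, hxm⟩ := hl S I hI ⟨_, _, c.mul_inv, c.inv_mul⟩ (grp_of_cond Q sp (x := ⟨_, _, c.mul_inv, c.inv_mul⟩) c)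
    obtain ⟨e, he⟩ := exists_cond Q sp hx
    obtain ⟨g, hg⟩ := exists_hom Q sp he
    refine ⟨g, hom_injective Q sp ?_⟩
    have hcomp : ∀ z : CA Q (Univ Q sp), mapC Q ((Ideal.Quotient.mkₐ R I).comp g) z =
        mapC Q (Ideal.Quotient.mkₐ R I) (mapC Q g z) := fun z => by
      refine (coord Q (S ⧸ I)).repr.injective (Finsupp.ext fun s => ?_)
      simp [repr_mapC]
    rw [hcomp, hg, hxm]
  refine ⟨(Groth.L15.OrthSm.smooth_iff_formallySmooth R (Univ Q sp) G y hbij).2 hfs, ?_⟩
  haveI : IsIso y.left := by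
    refine Groth.L15.OrthSm.isIso_of_bijective_points (X := Spec (CommRingCat.of (Univ Q sp))) y.left
      fun B g => ?_
    obtain ⟨f, hf⟩ : ∃ f, Spec.map f = g ≫ G.hom := ⟨Spec.preimage _, Spec.map_preimage _⟩
    letI : Algebra R B := f.hom.toAlgebra
    let g' : QuadGrp.specOver R B ⟶ G := Over.homMk g hf.symm
    obtain ⟨φ, hφ, -⟩ := (hbij B).existsUnique g'
    refine ⟨Spec.map (CommRingCat.ofHom φ.toRingHom), congrArg Over.Hom.left hφ, fun w hw => ?_⟩
    obtain ⟨ψ₀, rfl⟩ : ∃ ψ₀, Spec.map ψ₀ = w := ⟨Spec.preimage _, Spec.map_preimage _⟩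
    have hstr : (CommRingCat.ofHom (algebraMap R (Univ Q sp))) ≫ ψ₀ = f := by
      apply Spec.map_injective
      rw [Spec.map_comp, hf, ← hw]
      exact (congrArg (Spec.map ψ₀ ≫ ·) (Over.w y).symm).trans (Category.assoc _ _ _).symm
    let ψ : Univ Q sp →ₐ[R] B :=
      { ψ₀.hom with commutes' := fun r => congrArg (fun t : CommRingCat.of R ⟶ B => t.hom r) hstr }
    have : ψ = φ := (hbij B).1 (by
      change QuadGrp.specOverMap R ψ ≫ y = QuadGrp.specOverMap R φ ≫ y
      rw [show QuadGrp.specOverMap R φ ≫ y = g' from hφ]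
      exact Over.OverMorphism.ext hw)
    rw [← this]
    rfl
  haveI : IsAffine (QuadGrp.specOver R (Univ Q sp)).left :=
    inferInstanceAs (IsAffine (Spec (CommRingCat.of (Univ Q sp))))
  haveI : IsAffine G.left := IsAffine.of_isIso (inv y.left)
  infer_instance

end criterion

end Groth.L11.GPinSm
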